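import Cfsg.Agent.Lib.Lie.OrderF4
import Cfsg.Agent.Lib.Lie.ParabolicCells

/-!
# Representatives for the maximal parabolic subgroups of type F4

The orders of the maximal parabolic subgroups, and the orbits of the first three nodes on the
cosets of the last three.
-/

set_option autoImplicit false
set_option maxRecDepth 20000

namespace Cfsg.Agent.TwistedF4Inv

open Cfsg.Agent.Chev
open Cfsg.Agent.Chev.Tab

/-- representatives -/
def repsB : List Tab.Rep :=
  [⟨[0, 1, 2, 1, 0], 5, 169548074, [(false, 2), (false, 1), (true, 5)]⟩,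
   ⟨[0], 1, 237115672, [(false, 2), (true, 2), (true, 4)]⟩,
   ⟨[0, 1], 2, 453847320, [(true, 3), (true, 1), (false, 1)]⟩,
   ⟨[0, 1, 2], 3, 455280170, [(true, 2), (true, 5), (false, 1)]⟩,
   ⟨[], 0, 555424024, [(false, 2), (false, 1), (true, 1)]⟩,
   ⟨[0, 1, 2, 1], 4, 621549866, [(false, 2), (true, 3), (true, 0)]⟩]

/-- representatives -/
def repsD : List Tab.Rep :=
  [⟨[], 0, 555424024, [(false, 2), (true, 1)]⟩,
   ⟨[3], 1, 555424279, [(true, 2), (true, 0)]⟩,
   ⟨[3, 2], 2, 555554073, [(true, 1), (false, 2)]⟩]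

/-- representatives -/
def repsE : List Tab.Rep :=
  [⟨[0], 1, 237115672, [(false, 2), (false, 3), (true, 1)]⟩,
   ⟨[], 0, 555424024, [(false, 2), (false, 3), (true, 0)]⟩]

/-- representatives -/
def repsG : List Tab.Rep :=
  [⟨[0], 1, 237115672, [(true, 1)]⟩,
   ⟨[], 0, 555424024, [(true, 0)]⟩]

/-- representatives -/
def repsH : List Tab.Rep :=
  [⟨[1, 0], 2, 220274200, [(true, 2), (false, 0)]⟩,
   ⟨[], 0, 555424024, [(false, 0), (true, 2)]⟩,
   ⟨[1], 1, 571743768, [(true, 0), (true, 1)]⟩]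

/-- representatives -/
def repsI : List Tab.Rep :=
  [⟨[], 0, 555424024, [(false, 0), (false, 1), (true, 1)]⟩,
   ⟨[3], 1, 555424279, [(false, 0), (false, 1), (true, 0)]⟩]

theorem stepB : F4Data.tab.checkStep [2, 1] [2, 1, 0] repsB = true := by decide +kernel

theorem stepD : F4Data.tab.checkStep [2] [2, 3] repsD = true := by decide +kernel

theorem stepE : F4Data.tab.checkStep [2, 3] [2, 3, 0] repsE = true := by decide +kernel

theorem stepG : F4Data.tab.checkStep [] [0] repsG = true := by decide +kernel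

theorem stepH : F4Data.tab.checkStep [0] [0, 1] repsH = true := by decide +kernel

theorem stepI : F4Data.tab.checkStep [0, 1] [0, 1, 3] repsI = true := by decide +kernel

theorem poinc210 (g : F4Data.tab.Good) (q : ℕ) :
    poinc g [2, 1, 0] q =
      (1 + q) * (1 + q + q ^ 2 + q ^ 3) * (1 + q + q ^ 2 + q ^ 3 + q ^ 4 + q ^ 5) := by
  rw [poinc_step g stepB, poinc_step g F4Data.step1, poinc_step g F4Data.step0, poinc_nil]
  simp [repsB, F4Data.reps1, F4Data.reps0]
  ring

theorem poinc213 (g : F4Data.tab.Good) (q : ℕ) :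
    poinc g [2, 1, 3] q =
      (1 + q) * (1 + q + q ^ 2 + q ^ 3) * (1 + q + q ^ 2 + q ^ 3 + q ^ 4 + q ^ 5) := by
  rw [poinc_step g F4Data.step2, poinc_step g F4Data.step1, poinc_step g F4Data.step0, poinc_nil]
  simp [F4Data.reps2, F4Data.reps1, F4Data.reps0]
  ring

theorem poinc230 (g : F4Data.tab.Good) (q : ℕ) :
    poinc g [2, 3, 0] q = (1 + q) * (1 + q + q ^ 2) * (1 + q) := by
  rw [poinc_step g stepE, poinc_step g stepD, poinc_step g F4Data.step0, poinc_nil]
  simp [repsE, repsD, F4Data.reps0]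
  ring

theorem poinc013 (g : F4Data.tab.Good) (q : ℕ) :
    poinc g [0, 1, 3] q = (1 + q) * (1 + q + q ^ 2) * (1 + q) := by
  rw [poinc_step g stepI, poinc_step g stepH, poinc_step g stepG, poinc_nil]
  simp [repsI, repsH, repsG]
  ring

/-- follow transitions -/
def follow : ℕ → List ℕ → Option ℕ
  | m, [] => some m
  | m, k :: ks =>
    match F4Data.reps3[m]? with
    | none => none
    | some d =>
      match d.next[k]? with
      | some (true, e) => follow e ks
      | _ => none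

/-- the classes -/
def cls : List (Fin 3) :=
  [1, 2, 0, 1, 1, 1, 1, 2, 0, 1, 2, 0, 0, 1, 2, 0, 1, 1, 2, 0, 1, 1, 2, 1]

/-- the paths from the roots -/
def path : List (List ℕ) :=
  [[1, 0, 1, 3], [3, 1, 0, 1, 3], [3, 1, 0, 1, 3], [1, 3], [1, 0, 3], [1, 0, 1, 3, 1], [1, 0, 1, 3, 1, 0], [3], [3], [1, 0, 1, 3, 1, 0, 1], [3, 1], [3, 1], [3, 1, 0], [], [3, 1, 0], [], [1, 0, 3, 1], [1, 0, 3, 1, 0], [], [3, 1, 0, 1], [1], [1, 0], [3, 1, 0, 1], [1, 0, 1]]

/-- the roots -/
def root : Fin 3 → Fin 24 := ![15, 13, 18]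

/-- the class of an index -/
def cl (m : Fin 24) : Fin 3 := cls.getD m 0

theorem paths_ok : ∀ m : Fin 24, follow (root (cl m)) (path.getD m []) = some (m : ℕ) ∧
    follow m (path.getD m []).reverse = some ((root (cl m) : Fin 24) : ℕ) ∧
    ∀ k ∈ path.getD m [], k = 0 ∨ k = 1 ∨ k = 3 := by
  decide +kernel

theorem class0 : (Finset.univ : Finset (Fin 24)).filter (fun m => cl m = 0) =
    {2, 8, 11, 12, 15, 19} := by
  decide +kernel

theorem class1 : (Finset.univ : Finset (Fin 24)).filter (fun m => cl m = 1) =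
    {0, 3, 4, 5, 6, 9, 13, 16, 17, 20, 21, 23} := by
  decide +kernel

theorem class2 : (Finset.univ : Finset (Fin 24)).filter (fun m => cl m = 2) =
    {1, 7, 10, 14, 18, 22} := by
  decide +kernel

theorem sum0 (q : ℤ) :
    (∑ m ∈ (Finset.univ : Finset (Fin 24)).filter (fun m => cl m = 0),
      q ^ (F4Data.reps3[(m : ℕ)]'(m.isLt)).len) = (q ^ 2 - q + 1) * (1 + 2 * q + 2 * q ^ 2 + q ^ 3) := by
  rw [class0]
  simp [F4Data.reps3]
  ring

theorem sum1 (q : ℤ) :
    (∑ m ∈ (Finset.univ : Finset (Fin 24)).filter (fun m => cl m = 1),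
      q ^ (F4Data.reps3[(m : ℕ)]'(m.isLt)).len) = (q ^ 2 - q + 1) * (q ^ 4 * (1 + 2 * q + 3 * q ^ 2 + 3 * q ^ 3 + 2 * q ^ 4 + q ^ 5)) := by
  rw [class1]
  simp [F4Data.reps3]
  ring

theorem sum2 (q : ℤ) :
    (∑ m ∈ (Finset.univ : Finset (Fin 24)).filter (fun m => cl m = 2),
      q ^ (F4Data.reps3[(m : ℕ)]'(m.isLt)).len) = (q ^ 2 - q + 1) * (q ^ 10 * (1 + 2 * q + 2 * q ^ 2 + q ^ 3)) := by
  rw [class2]
  simp [F4Data.reps3]
  ring

end Cfsg.Agent.TwistedF4Inv
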