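import Cfsg.Agent.Lib.TwistedF4Inv.Data
import Cfsg.Agent.Lib.Lie.BorelTits
import Cfsg.Agent.Lib.Lie.TwF4

/-!
# Elements commuting with an involution of a large Ree group

The centraliser of an involution lies in a proper parabolic subgroup of `F₄(q)`, and so in the
intersection of it with its image under the endomorphism.  The two parabolic subgroups of types
`B₃` and `C₃` never share an element of prime order dividing `q² - q + 1`.
-/

set_option autoImplicit false
set_option maxRecDepth 20000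

namespace Cfsg.Agent.TwistedF4Inv

open Cfsg.Agent.Chev
open Cfsg.Agent.Chev.Tab

/-- the tables -/
abbrev T := F4Data.tab

theorem goodA : T.GoodA := TwF4.gA

variable {F : Type*} [Field F]

/-- `a` is stable under the transitions by letters of `[2, 1, 0]` -/
theorem follow_mem {O : Finset (Fin 24)}
    (h : ∀ m ∈ O, ∀ k, k = 0 ∨ k = 1 ∨ k = 3 → ∀ e : Fin 24,
      (F4Data.reps3[(m : ℕ)]'(m.isLt)).next[k]? = some (true, (e : ℕ)) → e ∈ O) :
    ∀ (ks : List ℕ) (m e : Fin 24), (∀ k ∈ ks, k = 0 ∨ k = 1 ∨ k = 3) →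
      follow m ks = some (e : ℕ) → m ∈ O → e ∈ O
  | [], m, e, _, hf, hm => by
    rw [follow, Option.some.injEq] at hf
    exact Fin.ext hf ▸ hm
  | k :: ks, m, e, hk, hf, hm => by
    rw [follow, List.getElem?_eq_getElem (show (m : ℕ) < F4Data.reps3.length from m.isLt)] at hf
    dsimp only at hf
    split at hf
    case h_2 => exact absurd hf (by simp)
    case h_1 e' hn =>
      have he' : e' < 24 := by
        by_contra hge
        cases ks with
        | nil => rw [follow, Option.some.injEq] at hf; exact hge (hf ▸ e.isLt)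
        | cons a as =>
          rw [follow, List.getElem?_eq_none (show F4Data.reps3.length ≤ e' from not_lt.1 hge)] at hf
          exact absurd hf (by simp)
      exact follow_mem h ks ⟨e', he'⟩ e (fun a ha => hk a (List.mem_cons_of_mem _ ha)) hf
        (h m hm k (hk k List.mem_cons_self) ⟨e', he'⟩ hn)

theorem mem_iff_root {O : Finset (Fin 24)}
    (h : ∀ m ∈ O, ∀ k, k = 0 ∨ k = 1 ∨ k = 3 → ∀ e : Fin 24,
      (F4Data.reps3[(m : ℕ)]'(m.isLt)).next[k]? = some (true, (e : ℕ)) → e ∈ O) (m : Fin 24) :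
    m ∈ O ↔ root (cl m) ∈ O := by
  obtain ⟨h1, h2, h3⟩ := paths_ok m
  exact ⟨follow_mem h _ _ _ (fun k hk => h3 k (List.mem_reverse.1 hk)) h2,
    follow_mem h _ _ _ h3 h1⟩

theorem sum_closed {O : Finset (Fin 24)}
    (h : ∀ m ∈ O, ∀ k, k = 0 ∨ k = 1 ∨ k = 3 → ∀ e : Fin 24,
      (F4Data.reps3[(m : ℕ)]'(m.isLt)).next[k]? = some (true, (e : ℕ)) → e ∈ O) (q : ℤ) :
    q ^ 2 - q + 1 ∣ ∑ m ∈ O, q ^ (F4Data.reps3[(m : ℕ)]'(m.isLt)).len := by
  rw [← Finset.sum_fiberwise O cl]
  refine Finset.dvd_sum fun c _ => ?_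
  by_cases hr : root c ∈ O
  · have : O.filter (fun m => cl m = c) = Finset.univ.filter (fun m => cl m = c) := by
      ext m
      simp only [Finset.mem_filter, Finset.mem_univ, true_and, and_iff_right_iff_imp]
      intro hm
      rw [mem_iff_root h, hm]; exact hr
    rw [this]
    fin_cases c
    · exact (sum0 q).symm ▸ dvd_mul_right _ _
    · exact (sum1 q).symm ▸ dvd_mul_right _ _
    · exact (sum2 q).symm ▸ dvd_mul_right _ _
  · have : O.filter (fun m => cl m = c) = ∅ := by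
      ext m
      simp only [Finset.mem_filter, Finset.notMem_empty, iff_false, not_and]
      intro hm hc
      exact hr (hc ▸ (mem_iff_root h m).1 hm)
    rw [this]
    simp

theorem group_le_top : T.D.group F ≤ parL T F [2, 1, 3, 0] := by
  have g := goodA.toGood
  refine group_le_of_simple g (fun i hi t => borel_le_parL _ (pos_le_borel g (g.smp_ge hi)
    (g.smp_lt hi) t)) fun i hi => nG_mem_parL g hi ?_
  change i < 4 at hi
  interval_cases i <;> simp

theorem prime_facts {q r : ℕ} (hq : 1 ≤ q) (hr : r.Prime) (h : ¬ r ∣ q * (q ^ 4 - 1)) :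
    ¬ r ∣ q ∧ ¬ r ∣ q - 1 ∧ ¬ r ∣ q + 1 ∧ ¬ r ∣ q ^ 2 + 1 := by
  have e : q ^ 4 - 1 = (q - 1) * (q + 1) * (q ^ 2 + 1) := by
    zify [hq, Nat.one_le_pow 4 q hq]; ring
  rw [e] at h
  refine ⟨fun hh => h (Dvd.dvd.mul_right hh _), fun hh => h ?_, fun hh => h ?_, fun hh => h ?_⟩
  · exact Dvd.dvd.mul_left (Dvd.dvd.mul_right (Dvd.dvd.mul_right hh _) _) _
  · exact Dvd.dvd.mul_left (Dvd.dvd.mul_right (Dvd.dvd.mul_left hh _) _) _
  · exact Dvd.dvd.mul_left (Dvd.dvd.mul_left hh _) _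

variable [Fintype F]

theorem card_borel_q :
    Nat.card (T.D.borelSubgroup F) = Fintype.card F ^ 24 * (Fintype.card F - 1) ^ 4 := by
  rw [card_borel goodA]
  have h := card_diagonal_mul (F := F) goodA.toGood F4Data.torOK
  simp only [F4Data.cert, pow_zero, one_mul] at h
  rw [h]
  rfl

/-- no element of such an order lies in conjugates of the parabolic subgroups of types B₃ and C₃ -/
theorem no_common {r : ℕ} (hr : r.Prime)
    (hq : ¬ r ∣ Fintype.card F * (Fintype.card F ^ 4 - 1))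
    (h3 : ¬ r ∣ Fintype.card F ^ 2 + Fintype.card F + 1) {x y c : GL T.D.Idx F}
    (hx : x ∈ T.D.group F) (hy : y ∈ T.D.group F) (hc : orderOf c = r)
    (hcx : x⁻¹ * c * x ∈ parL T F [2, 1, 0]) (hcy : y⁻¹ * c * y ∈ parL T F [2, 1, 3]) : False := by
  have g := goodA
  obtain ⟨O, hO, hcard⟩ := parL_orbit (F := F) g (K := [2, 1, 0]) F4Data.step3 (by decide)
    (group_le_top (mul_mem (inv_mem hx) hy))
  change Finset (Fin 24) at O
  have hcl : ∀ m ∈ O, ∀ k, k = 0 ∨ k = 1 ∨ k = 3 → ∀ e : Fin 24,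
      (F4Data.reps3[(m : ℕ)]'(m.isLt)).next[k]? = some (true, (e : ℕ)) → e ∈ O := by
    intro m hm k hk e he
    rcases hk with rfl | rfl | rfl
    · exact hO m hm 0 2 e rfl (by decide) he
    · exact hO m hm 1 1 e rfl (by decide) he
    · exact hO m hm 3 0 e rfl (by decide) he
  set q := Fintype.card F with hqdef
  have hq1 : 1 ≤ q := Fintype.card_pos
  obtain ⟨n1, n2, n3, n4⟩ := prime_facts hq1 hr hq
  set φ := q * (q - 1) + 1 with hφdef
  have hφ : (φ : ℤ) = (q : ℤ) ^ 2 - q + 1 := by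
    rw [hφdef]; push_cast [hq1]; ring
  set pt : GL T.D.Idx F ⧸ parL T F [2, 1, 3] := QuotientGroup.mk (x⁻¹ * y) with hpt
  have hdvd : φ ∣ Nat.card (MulAction.orbit ↥(parL T F [2, 1, 0]) pt) := by
    rw [hpt, hcard]
    have h := sum_closed hcl (q : ℤ)
    rw [← hφ] at h
    refine Int.natCast_dvd_natCast.1 ?_
    convert h using 1
    exact (Nat.cast_sum O _).trans (Finset.sum_congr rfl fun m _ => Nat.cast_pow _ _)
  obtain ⟨k, hk⟩ := hdvd
  let st := MulAction.stabilizer ↥(parL T F [2, 1, 0]) pt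
  have hst : st.index = φ * k := by
    rw [MulAction.index_stabilizer, ← Nat.card_coe_set_eq, hk]
  have hmul := st.index_mul_card
  rw [hst, card_parL g (by decide), card_borel_q, poinc210] at hmul
  have e : 1 + q + q ^ 2 + q ^ 3 + q ^ 4 + q ^ 5 = φ * ((q + 1) * (q ^ 2 + q + 1)) := by
    zify
    rw [hφ]; ring
  have e' : 1 + q + q ^ 2 + q ^ 3 = (q + 1) * (q ^ 2 + 1) := by ring
  rw [← hqdef, e, e'] at hmul
  have hmem : (⟨x⁻¹ * c * x, hcx⟩ : ↥(parL T F [2, 1, 0])) ∈ st := by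
    refine MulAction.mem_stabilizer_iff.2 ?_
    show (((x⁻¹ * c * x) * (x⁻¹ * y) : GL T.D.Idx F) : GL T.D.Idx F ⧸ parL T F [2, 1, 3]) = _
    have := inv_mem hcy
    rw [QuotientGroup.eq]
    convert this using 1
    group
  have hord : orderOf (⟨x⁻¹ * c * x, hcx⟩ : ↥(parL T F [2, 1, 0])) = r := by
    rw [← Subgroup.orderOf_coe, ← hc]
    show orderOf (x⁻¹ * c * x) = _
    rw [← (MulAut.conj x⁻¹).orderOf_eq c]
    simp
  have hdiv : r ∣ k * Nat.card st := hord ▸ (Subgroup.orderOf_dvd_natCard st hmem).mul_left k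
  have hφ0 : φ ≠ 0 := by omega
  have hkey : k * Nat.card st =
      q ^ 24 * (q - 1) ^ 4 * (1 + q) * ((q + 1) * (q ^ 2 + 1)) * ((q + 1) * (q ^ 2 + q + 1)) := by
    apply Nat.eq_of_mul_eq_mul_left (Nat.pos_of_ne_zero hφ0)
    calc φ * (k * Nat.card st) = φ * k * Nat.card st := (mul_assoc _ _ _).symm
      _ = _ := by rw [hmul]; ring
  rw [hkey] at hdiv
  rcases hr.dvd_mul.1 hdiv with h | h
  rcases hr.dvd_mul.1 h with h | h
  rcases hr.dvd_mul.1 h with h | h
  rcases hr.dvd_mul.1 h with h | h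
  · exact n1 (hr.dvd_of_dvd_pow h)
  · exact n2 (hr.dvd_of_dvd_pow h)
  · exact n3 (add_comm 1 q ▸ h)
  · rcases hr.dvd_mul.1 h with h | h
    exacts [n3 h, n4 h]
  · rcases hr.dvd_mul.1 h with h | h
    exacts [n3 h, h3 h]

variable [CharP F 2]

/-- the endomorphism as a homomorphism on the group -/
noncomputable def sHom (m : ℕ) : ↥(T.D.group F) →* GL T.D.Idx F :=
  MonoidHom.mk' (fun z => TwF4.sigma m (z : GL T.D.Idx F)) fun a b => TwF4.mul_grp a.2 b.2

theorem sigma_parabolic {m : ℕ} (hK : Fintype.card F = 2 ^ (2 * m + 1)) {J J' : List ℕ}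
    (hρ : ∀ j < 4, j ∈ J → F4Data.isog.ρ.getD j 0 ∈ J') {z : GL T.D.Idx F}
    (hz : z ∈ parL T F J) : TwF4.sigma m z ∈ parL T F J' := by
  have g := goodA.toGood
  suffices H : parL T F J ≤ ((parL T F J').comap (sHom (F := F) m)).map (T.D.group F).subtype by
    obtain ⟨w, hw, rfl⟩ := H hz
    exact hw
  refine parL_le g (fun u hu => ?_) fun j hj hjJ => ?_
  · refine ⟨⟨u, borel_le_group g hu⟩, ?_, rfl⟩
    show TwF4.sigma m u ∈ parL T F J'
    obtain ⟨v, hv, c, rfl⟩ := (mem_borel_iff g).1 hu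
    have hvG : v ∈ T.D.group F :=
      borel_le_group g (genS_pos_le_borel g (fun r hr => hr) hv)
    rw [TwF4.mul_grp hvG (tor_mem_group g c)]
    refine borel_le_parL J' (mul_mem (genS_pos_le_borel g (fun r hr => hr) ?_) ?_)
    · exact (TwF4.X hK).σ_pos hv
    · rw [show TwF4.sigma m (tor T F c) = tor T F _ from
        isoσ_tor TwF4.gW TwF4.facts TwF4.perf (TwF4.psi m) c]
      exact torus_le_borel g _
  · refine ⟨⟨nG g F j, nG_mem_group g j⟩, ?_, rfl⟩
    show TwF4.sigma m (nG g F j) ∈ parL T F J'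
    have hwd : T.Wd [j] := by intro i hi; obtain rfl := List.mem_singleton.1 hi; exact hj
    have h := isoσ_nWd TwF4.gW TwF4.facts (TwF4.perf (F := F)) (TwF4.psi m) hwd
    simp only [nWd_cons, nWd_nil, mul_one, List.map_cons, List.map_nil] at h
    rw [show TwF4.sigma m (nG g F j) = nG g F (F4Data.isog.ρ.getD j 0) from h]
    refine nG_mem_parL g ?_ (hρ j hj hjJ)
    change j < 4 at hj
    change F4Data.isog.ρ.getD j 0 < 4
    interval_cases j <;> decide

/-- an element of odd prime order commuting with an involution has order dividing `q⁴ - 1` -/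
theorem prime_dvd {m : ℕ} (hK : Fintype.card F = 2 ^ (2 * m + 1)) {a b : GL T.D.Idx F}
    (haT : a ∈ TwF4.tw F (2 ^ m)) (hbT : b ∈ TwF4.tw F (2 ^ m)) (ha : orderOf a = 2)
    (hab : Commute a b) {r : ℕ} (hr : r.Prime) (hb : orderOf b = r) :
    r ∣ Fintype.card F * (Fintype.card F ^ 4 - 1) := by
  by_contra hn
  have hq1 : 1 ≤ Fintype.card F := Fintype.card_pos
  obtain ⟨n1, n2, n3, n4⟩ := prime_facts hq1 hr hn
  obtain ⟨haG, -⟩ := TwF4.twisted_fixed hK a haT
  obtain ⟨hbG, hbσ⟩ := TwF4.twisted_fixed hK b hbT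
  have hr2 : r ≠ 2 := by
    rintro rfl
    apply n1
    rw [hK]; exact dvd_pow_self 2 (by omega)
  have h3 : ¬ r ∣ Fintype.card F ^ 2 + Fintype.card F + 1 := by
    intro h
    have hord : r ∣ Nat.card ↥(TwF4.tw F (2 ^ m)) := hb ▸ Subgroup.orderOf_dvd_natCard _ hbT
    rw [TwF4.card_twisted hK, ← hK] at hord
    set q := Fintype.card F with hqd
    have hcube : (q : ZMod r) ^ 3 = 1 := by
      have h' : ((q ^ 2 + q + 1 : ℕ) : ZMod r) = 0 := (ZMod.natCast_eq_zero_iff _ _).2 h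
      push_cast at h'
      linear_combination ((q : ZMod r) - 1) * h'
    haveI : Fact r.Prime := ⟨hr⟩
    have h2 : ((2 : ℕ) : ZMod r) ≠ 0 := by
      rw [Ne, ZMod.natCast_eq_zero_iff]
      exact fun hd => hr2 ((Nat.prime_dvd_prime_iff_eq hr Nat.prime_two).1 hd)
    have hne3 : ¬ r ∣ q ^ 3 + 1 := by
      rw [← ZMod.natCast_eq_zero_iff]
      push_cast
      rw [hcube]
      exact fun hh => h2 (by push_cast; linear_combination hh)
    have hne6 : ¬ r ∣ q ^ 6 + 1 := by
      rw [← ZMod.natCast_eq_zero_iff]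
      push_cast
      rw [show (q : ZMod r) ^ 6 = (q : ZMod r) ^ 3 * (q : ZMod r) ^ 3 by ring, hcube]
      exact fun hh => h2 (by push_cast; linear_combination hh)
    rcases hr.dvd_mul.1 hord with hd | hd
    rcases hr.dvd_mul.1 hd with hd | hd
    rcases hr.dvd_mul.1 hd with hd | hd
    rcases hr.dvd_mul.1 hd with hd | hd
    · exact n1 (hr.dvd_of_dvd_pow hd)
    · exact n2 hd
    · exact hne3 hd
    · exact hn (dvd_mul_of_dvd_right hd _)
    · exact hne6 hd
  haveI : Fact (Nat.Prime 2) := ⟨Nat.prime_two⟩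
  obtain ⟨x, hx, J, ⟨i, hi, hiJ⟩, hnorm, -⟩ := borel_tits (T := T) (F := F) TwF4.gW.toGoodK 2
    (Subgroup.zpowers a) (Subgroup.zpowers_le.2 haG)
    (IsPGroup.of_card (n := 1) (by rw [Nat.card_zpowers, ha, pow_one]))
    (fun h => by
      have h1 : a = 1 := Subgroup.zpowers_eq_bot.1 h
      rw [h1, orderOf_one] at ha; omega)
  have hbN : b ∈ Subgroup.normalizer (Subgroup.zpowers a : Set (GL T.D.Idx F)) := by
    refine Subgroup.mem_normalizer_iff.2 fun z => ?_
    have hz : ∀ z ∈ Subgroup.zpowers a, b * z * b⁻¹ = z := by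
      intro z hz
      obtain ⟨k, rfl⟩ := Subgroup.mem_zpowers_iff.1 hz
      rw [← (hab.zpow_left k).eq, mul_inv_cancel_right]
    constructor
    · intro h
      rwa [hz z h]
    · intro h
      have := hz _ h
      exact mul_left_cancel (mul_right_cancel this) ▸ h
  have hmono : ∀ L : List ℕ, (∀ j < 4, j ≠ i → j ∈ L) →
      T.D.parabolicSubgroup F J ≤ parL T F L := by
    intro L hL
    refine sup_le_sup_left (Subgroup.closure_mono ?_) _
    rintro z ⟨j, hjJ, hj, hz⟩
    exact ⟨j, hL j hj (fun e => hiJ (e ▸ hjJ)), hj, hz⟩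
  obtain ⟨w, hw, hwb⟩ := hnorm ⟨hbN, hbG⟩
  have hw' : x⁻¹ * b * x = w := by rw [← hwb]; simp [mul_assoc]
  have hσ : ∀ L L' : List ℕ, (∀ j < 4, j ∈ L → F4Data.isog.ρ.getD j 0 ∈ L') →
      x⁻¹ * b * x ∈ parL T F L →
      (TwF4.sigma m x)⁻¹ * b * TwF4.sigma m x ∈ parL T F L' := by
    intro L L' hρ hmem
    have h := sigma_parabolic hK hρ hmem
    rw [TwF4.mul_grp (mul_mem (inv_mem hx) hbG) hx, TwF4.mul_grp (inv_mem hx) hbG, hbσ] at h
    convert h using 3
    refine inv_eq_of_mul_eq_one_left ?_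
    rw [← TwF4.mul_grp (inv_mem hx) hx, inv_mul_cancel, TwF4.sigma_one]
  have hσG : TwF4.sigma m x ∈ T.D.group F := isoσ_mem TwF4.gW TwF4.facts TwF4.perf _ hx
  have hsmall : ∀ L : List ℕ, (∀ j ∈ L, j < 4) →
      poinc goodA.toGood L (Fintype.card F) =
        (1 + Fintype.card F) * (1 + Fintype.card F + Fintype.card F ^ 2) * (1 + Fintype.card F) →
      x⁻¹ * b * x ∈ parL T F L → False := by
    intro L hL hpo hmem
    have hord : orderOf (x⁻¹ * b * x) = r := by
      rw [← hb, ← (MulAut.conj x⁻¹).orderOf_eq b]; simp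
    have h := Subgroup.orderOf_dvd_natCard _ hmem
    rw [hord, card_parL goodA hL, card_borel_q, hpo] at h
    rcases hr.dvd_mul.1 h with h | h
    · rcases hr.dvd_mul.1 h with h | h
      exacts [n1 (hr.dvd_of_dvd_pow h), n2 (hr.dvd_of_dvd_pow h)]
    · rcases hr.dvd_mul.1 h with h | h
      · rcases hr.dvd_mul.1 h with h | h
        · exact n3 (add_comm 1 _ ▸ h)
        · exact h3 (by convert h using 1; ring)
      · exact n3 (add_comm 1 _ ▸ h)
  have hmem : ∀ L : List ℕ, (∀ j < 4, j ≠ i → j ∈ L) → x⁻¹ * b * x ∈ parL T F L :=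
    fun L hL => hw' ▸ hmono L hL hw
  change i < 4 at hi
  interval_cases i
  · exact no_common hr hn h3 hσG hx hb
      (hσ [2, 1, 3] [2, 1, 0] (by decide) (hmem _ (by decide))) (hmem _ (by decide))
  · exact hsmall [2, 3, 0] (by decide) (poinc230 _ _) (hmem _ (by decide))
  · exact hsmall [0, 1, 3] (by decide) (poinc013 _ _) (hmem _ (by decide))
  · exact no_common hr hn h3 hx hσG hb (hmem _ (by decide))
      (hσ [2, 1, 0] [2, 1, 3] (by decide) (hmem [2, 1, 0] (by decide)))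

end Cfsg.Agent.TwistedF4Inv
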